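import Cfsg.Agent.H659.Rs.Box
import Cfsg.Agent.S5893
import Cfsg.Agent.S0243

/-!
# S3691: the box `BoxPsl2` (helper467)
-/

set_option autoImplicit false

namespace Cfsg.Agent.H467.Rs

open Cfsg Cfsg.Agent.H659.Rs

theorem ne_two {n r : ℕ} (hn : 0 < n) (h : Pm n r) : r ≠ 2 := by
  rintro rfl
  have h1 := h.ord
  have h2 : ((2 : ℕ) : ZMod 2) = 0 := by decide
  rw [h2] at h1
  have h3 : (0 : ZMod 2) ^ n = 1 := by rw [← h1]; exact pow_orderOf_eq_one _
  rw [zero_pow (by omega)] at h3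
  exact absurd h3 (by decide)

theorem dvd_of_dvd_two_pow {n r k : ℕ} (h : Pm n r) (hk : r ∣ 2 ^ k - 1) : n ∣ k := by
  rw [← h.ord]
  apply orderOf_dvd_of_pow_eq_one
  have h1 : 1 ≤ 2 ^ k := Nat.one_le_two_pow
  have h2 : ((2 ^ k - 1 : ℕ) : ZMod r) = 0 := (ZMod.natCast_eq_zero_iff _ _).2 hk
  rw [Nat.cast_sub h1, Nat.cast_pow, Nat.cast_one, sub_eq_zero] at h2
  exact h2

theorem card_psl_even {F : Type*} [Field F] [Fintype F] {q : ℕ} (hF : Fintype.card F = q) (he : Even q) :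
    Nat.card (Matrix.ProjectiveSpecialLinearGroup (Fin 2) F) = q * (q ^ 2 - 1) := by
  have h1 := S0243.result hF 2 (by norm_num)
  rw [Fin.prod_univ_two] at h1
  simp only [Fin.val_zero, Fin.val_one, pow_zero, pow_one] at h1
  have hq : 1 < q := by rw [← hF]; exact Fintype.one_lt_card
  have hg : Nat.gcd 2 (q - 1) = 1 := by
    apply Nat.coprime_two_left.2
    obtain ⟨k, hk⟩ := he
    rw [Nat.odd_iff]; omega
  rw [hg, one_mul] at h1
  have h2 : q ^ 2 - q = (q - 1) * q := by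
    rw [Nat.sub_mul, one_mul, pow_two]
  rw [h2] at h1
  have h3 : (q - 1) * Nat.card (Matrix.ProjectiveSpecialLinearGroup (Fin 2) F) = (q - 1) * (q * (q ^ 2 - 1)) := by
    rw [h1]; ring
  exact Nat.eq_of_mul_eq_mul_left (by omega) h3

theorem boxPsl2 : BoxPsl2 := by
  intro S _ _ K _ _ g r hg hK ⟨e⟩ hr R hrR
  by_cases hR : R = ⊤
  · exact Or.inl hR
  right
  have hr2 : r ≠ 2 := ne_two (by omega) hr
  -- a maximal subgroup over `R`
  obtain ⟨M, hM, hRM⟩ := (eq_top_or_exists_le_coatom R).resolve_left hR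
  have hM' : IsCoatom (M.map e.toMonoidHom) := by
    have h := (OrderIso.isCoatom_iff (MulEquiv.mapSubgroup e) M).2 hM
    exact h
  have hcM : Nat.card (M.map e.toMonoidHom) = Nat.card M :=
    Nat.card_congr (M.equivMapOfInjective e.toMonoidHom e.injective).toEquiv.symm
  have hrM : r ∣ Nat.card M := hrR.trans (Subgroup.card_dvd_of_le hRM)
  have heven : Even (Fintype.card K) := by
    rw [hK]; exact Even.pow_of_ne_zero even_two (by omega)
  have h4 : 4 ≤ Fintype.card K := by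
    rw [hK]
    calc 4 = 2 ^ 2 := by norm_num
      _ ≤ 2 ^ g := Nat.pow_le_pow_right (by norm_num) (by omega)
  have hno : ∀ k, 0 < k → k < 2 * g → ¬ r ∣ 2 ^ k - 1 := fun k hk hkg h =>
    absurd (Nat.le_of_dvd hk (dvd_of_dvd_two_pow hr h)) (by omega)
  rcases S5893.result heven h4 _ hM' with h | ⟨⟨f⟩⟩ | ⟨⟨f⟩⟩ | ⟨F₀, _, _, t, ht, h02, hcard, ⟨f⟩⟩
  · exfalso
    rw [hcM] at h
    rw [h, hK] at hrM
    rcases (Nat.Prime.dvd_mul hr.prime).1 hrM with h1 | h1
    · exact hr2 ((Nat.prime_dvd_prime_iff_eq hr.prime Nat.prime_two).1 (hr.prime.dvd_of_dvd_pow h1))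
    · exact hno g (by omega) (by omega) h1
  · exfalso
    have h := Nat.card_congr f.toEquiv
    rw [hcM, DihedralGroup.nat_card] at h
    rw [h, hK] at hrM
    rcases (Nat.Prime.dvd_mul hr.prime).1 hrM with h1 | h1
    · exact hr2 ((Nat.prime_dvd_prime_iff_eq hr.prime Nat.prime_two).1 h1)
    · exact hno g (by omega) (by omega) h1
  · have h := Nat.card_congr f.toEquiv
    rw [hcM, DihedralGroup.nat_card, hK] at h
    rw [← h]
    exact Subgroup.card_dvd_of_le hRM
  · exfalso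
    have h := Nat.card_congr f.toEquiv
    rw [hcM] at h
    -- `|F₀| = 2 ^ a`
    obtain ⟨a, ha, hFa⟩ : ∃ a, a ≤ g ∧ Fintype.card F₀ = 2 ^ a := by
      have h1 : Fintype.card F₀ ∣ 2 ^ g := by
        rw [← hK, hcard]; exact dvd_pow_self _ ht.ne_zero
      exact (Nat.dvd_prime_pow Nat.prime_two).1 h1
    have hag : g = a * t := by
      rw [hFa, ← pow_mul, hK] at hcard
      exact Nat.pow_right_injective le_rfl hcard
    have ha0 : 0 < a := by
      rcases Nat.eq_zero_or_pos a with h0 | h0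
      · rw [h0, zero_mul] at hag; omega
      · exact h0
    have he0 : Even (Fintype.card F₀) := by
      rw [hFa]; exact Even.pow_of_ne_zero even_two (by omega)
    rw [card_psl_even rfl he0, hFa] at h
    rw [h] at hrM
    rcases (Nat.Prime.dvd_mul hr.prime).1 hrM with h1 | h1
    · exact hr2 ((Nat.prime_dvd_prime_iff_eq hr.prime Nat.prime_two).1 (hr.prime.dvd_of_dvd_pow h1))
    · rw [← pow_mul] at h1
      have h2 : a * 2 ≤ a * t := Nat.mul_le_mul_left _ ht.two_le
      exact hno (a * 2) (by omega) (by omega) h1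

end Cfsg.Agent.H467.Rs
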